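import Cfsg.Agent.H514.DP.Core
import Cfsg.Agent.H253.TwoComm.SporTool
import Cfsg.Agent.H121.Chr

/-!
# Tools for single groups (S2454, helper773)

* `pe_two_of_normalizes` : an element `y` of prime order normalized, but not centralized, by a `p`-element `z` is a product
  of two `p`-elements;
* `pe_two_of_dvd` : the same from `p ∣ |N(⟨y⟩) : C(⟨y⟩)|`;
* `minDeg_of_pd`, `minDeg_of_prime`, `minDeg_of_norm`: `MinDeg` from the bounds `PD` of the S2494 library, from a prime
  dividing the order once (Feit), from the normalizer of a subgroup of prime order.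
* `pw_of_elt`, `pw_of_norm` : the criterion K for a `p`-element, resp. an element of prime order with the trick.
-/

set_option autoImplicit false

namespace Cfsg.Agent.H773.Pw

open Cfsg Subgroup Cfsg.Agent.H514.DP
open Cfsg.Agent.H51.Mult (PCE)

universe u v w

section Trick

variable {G : Type u} [Group G] {p : ℕ}

/-- a subgroup of prime order on which `z` acts non-trivially consists of commutators with `z`. -/
theorem pe_two_of_normalizes {y z : G} (hz : IsPE p z) (hy : (orderOf y).Prime)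
    (hn : z * y * z⁻¹ ∈ zpowers y) (hc : z * y ≠ y * z) : PE p 2 y := by
  obtain ⟨i, hi⟩ := mem_zpowers_iff.1 hn
  have hnd : ¬ (orderOf y : ℤ) ∣ i - 1 := by
    intro h
    apply hc
    have h1 : y ^ (i - 1) = 1 := (orderOf_dvd_iff_zpow_eq_one).1 h
    have h2 : y ^ i = y := by
      have : y ^ i = y ^ (i - 1) * y := by rw [← zpow_add_one]; congr 1; ring
      rw [this, h1, one_mul]
    rw [h2] at hi
    calc z * y = (z * y * z⁻¹) * z := by group
      _ = y * z := by rw [← hi]
  have hprime : Prime (orderOf y : ℤ) := Nat.prime_iff_prime_int.1 hy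
  obtain ⟨a, b, hab⟩ := (Prime.coprime_iff_not_dvd hprime).2 hnd
  -- `a * l + b * (i - 1) = 1`
  have h3 : y ^ (b * (i - 1)) = y := by
    have : b * (i - 1) = 1 + (orderOf y : ℤ) * (-a) := by linarith
    rw [this, zpow_add, zpow_one, zpow_mul, zpow_natCast, pow_orderOf_eq_one, one_zpow, mul_one]
  have h4 : z * y ^ b * z⁻¹ = y ^ (i * b) := by
    rw [zpow_mul, hi, conj_zpow]
  have h5 : z * (y ^ b * z⁻¹ * (y ^ b)⁻¹) = y := by
    calc z * (y ^ b * z⁻¹ * (y ^ b)⁻¹) = (z * y ^ b * z⁻¹) * (y ^ b)⁻¹ := by group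
      _ = y ^ (i * b) * (y ^ b)⁻¹ := by rw [h4]
      _ = y ^ (b * (i - 1)) := by rw [← zpow_neg, ← zpow_add]; congr 1; ring
      _ = y := h3
  have h6 := hz.pe.mul ((hz.inv.conj (y ^ b)).pe)
  rwa [h5] at h6

/-- the trick from the index of the centralizer in the normalizer. -/
theorem pe_two_of_dvd [Finite G] (hp : p.Prime) {y : G} (hy : (orderOf y).Prime)
    (h : p ∣ (centralizer (zpowers y : Set G)).relIndex (normalizer (zpowers y : Set G))) : PE p 2 y := by
  classical
  have : Fact p.Prime := ⟨hp⟩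
  set N : Subgroup G := normalizer (zpowers y : Set G) with hN
  set C : Subgroup G := centralizer (zpowers y : Set G) with hC
  by_contra hcon
  -- every `p`-element of `N` centralizes `y`
  have h1 : ∀ z ∈ N, IsPE p z → z ∈ C := by
    intro z hz hzp
    by_contra hzc
    apply hcon
    refine pe_two_of_normalizes hzp hy ((mem_normalizer_iff.1 hz y).1 (mem_zpowers y)) ?_
    intro hcomm
    apply hzc
    rw [hC, mem_centralizer_iff]
    intro w hw
    obtain ⟨k, rfl⟩ := mem_zpowers_iff.1 hw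
    exact ((show Commute y z from hcomm.symm).zpow_left k)
  obtain ⟨P⟩ : Nonempty (Sylow p N) := inferInstance
  have h2 : (P : Subgroup N) ≤ C.subgroupOf N := by
    intro z hz
    rw [mem_subgroupOf]
    refine h1 z z.2 ?_
    obtain ⟨k, hk⟩ := P.isPGroup' ⟨z, hz⟩
    refine ⟨k, ?_⟩
    have := congrArg (fun t : P => ((t : N) : G)) hk
    simpa using this
  have h3 : (C.subgroupOf N).index ∣ (P : Subgroup N).index := Subgroup.index_dvd_of_le h2
  exact P.not_dvd_index (h.trans h3)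

/-- an element of a subgroup. -/
theorem pe_sub {H : Subgroup G} {m : ℕ} {y : H} (h : PE p m y) : PE p m (y : G) := h.map H.subtype

/-- products with commuting elements: `PE p m a`, `PE p m b` in commuting subgroups, for elements of `G`. -/
theorem pe_commute_mul {m : ℕ} {a b : G} (ha : PE p m a) (hb : IsPE p b) : PE p (m + 1) (a * b) := ha.mul hb.pe

end Trick

section Deg

theorem pce_id {K : Type v} [Group K] (hperf : commutator K = ⊤) : PCE (MonoidHom.id K) :=
  ⟨fun x => ⟨x, rfl⟩, by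
    intro x hx
    have : x = 1 := hx
    rw [this]
    exact one_mem _, hperf⟩

theorem not_dvd_ker_id {K : Type v} [Group K] {p : ℕ} (hp : p.Prime) : ¬ p ∣ Nat.card (MonoidHom.id K).ker := by
  have h : (MonoidHom.id K).ker = ⊥ := by
    rw [eq_bot_iff]
    intro x hx
    exact hx
  rw [h, Subgroup.card_bot]
  intro h1
  exact hp.one_lt.ne' (Nat.dvd_one.1 h1)

/-- from the degree bounds of the S2494 library (over the group itself) -/
theorem minDeg_of_pd {K : Type v} [Group K] [Finite K] (hperf : commutator K = ⊤) {D : ℕ} (h : H253.TC.PD K D) :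
    MinDeg K D := by
  intro k ρ hρ hk
  have := h.any (pce_id hperf) ρ (Cfsg.Agent.H121.Chr.exists_ne_one ρ hρ hk)
  simpa using this

variable {K : Type v} [Group K] [IsSimpleGroup K]

theorem perf_of_simple (hna : ¬ ∀ a b : K, a * b = b * a) : commutator K = ⊤ := by
  rcases (inferInstance : (commutator K).Normal).eq_bot_or_eq_top with h | h
  · exfalso
    apply hna
    intro a b
    have h1 : a * b * a⁻¹ * b⁻¹ ∈ commutator K := by
      rw [_root_.commutator_def]
      exact Subgroup.commutator_mem_commutator (mem_top a) (mem_top b)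
    rw [h, mem_bot] at h1
    calc a * b = (a * b * a⁻¹ * b⁻¹) * (b * a) := by group
      _ = b * a := by rw [h1, one_mul]
  · exact h

/-- `l` divides `|K|` exactly once: degrees `≥ (l + 1) / 2`. -/
theorem minDeg_of_prime {n : ℕ} (hn : Nat.card K = n) (h0 : n ≠ 0) {l : ℕ} (hl : l.Prime) (hl2 : l ≠ 2) (h1 : l ∣ n)
    (h2 : ¬ l ^ 2 ∣ n) (h3 : n ≠ l) (h4 : 2 * n ≠ l * (l ^ 2 - 1)) {D : ℕ} (hD : 2 * D ≤ l + 1) : MinDeg K D := by
  have hfin : Finite K := Nat.finite_of_card_ne_zero (hn.symm ▸ h0)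
  have hna := H253.TC.not_comm_of_card hn h0 hl h1 h3
  intro k ρ hρ hk
  have := H253.TC.deg_of_prime hna (pce_id (perf_of_simple hna)) hl (not_dvd_ker_id hl) (hn.symm ▸ h1) (hn.symm ▸ h2)
    (H253.TC.not_psl hn hl hl2 h4) ρ (Cfsg.Agent.H121.Chr.exists_ne_one ρ hρ hk)
  omega

/-- an element `x` of prime order `l` conjugate to the powers `x ^ j`, `j ∈ J`: degrees `≥ |J|`. -/
theorem minDeg_of_pow [Finite K] (hna : ¬ ∀ a b : K, a * b = b * a) {l : ℕ} (hl : l.Prime) {x : K} (hx : orderOf x = l)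
    (J : Finset ℕ) (hJ : ∀ j ∈ J, 0 < j ∧ j < l) (hconj : ∀ j ∈ J, IsConj x (x ^ j)) : MinDeg K J.card := by
  intro k ρ hρ hk
  exact H253.TC.deg_of_pow (pce_id (perf_of_simple hna)) hl (not_dvd_ker_id hl) ρ
    (Cfsg.Agent.H121.Chr.exists_ne_one ρ hρ hk) hx J hJ hconj

/-- `e * |C(⟨x⟩)| ≤ |N(⟨x⟩)|`: degrees `≥ e`. -/
theorem minDeg_of_norm [Finite K] (hna : ¬ ∀ a b : K, a * b = b * a) {l : ℕ} (hl : l.Prime) {x : K}
    (hx : orderOf x = l) {e : ℕ}
    (he : e * Nat.card (centralizer (zpowers x : Set K)) ≤ Nat.card (normalizer (zpowers x : Set K))) : MinDeg K e := by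
  obtain ⟨J, h1, h2, h3⟩ := H253.TC.exists_conj_powers hl hx he
  intro k ρ hρ hk
  exact h3.trans (minDeg_of_pow hna hl hx J h1 h2 k ρ hρ hk)

/-- a `l`-subgroup with all nontrivial elements conjugate: degrees `≥ |B| - 1`. -/
theorem minDeg_of_fused [Finite K] (hna : ¬ ∀ a b : K, a * b = b * a) {l : ℕ} (hl : l.Prime) (B : Subgroup K)
    (hB : IsPGroup l B) (hconj : ∀ a ∈ B, a ≠ 1 → ∀ b ∈ B, b ≠ 1 → IsConj a b) {D : ℕ} (hD : D + 1 ≤ Nat.card B) :
    MinDeg K D := by
  intro k ρ hρ hk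
  have := H253.TC.deg_fused (pce_id (perf_of_simple hna)) hl (not_dvd_ker_id hl) ρ
    (Cfsg.Agent.H121.Chr.exists_ne_one ρ hρ hk) B hB hconj
  omega

end Deg

section Crit

variable {K : Type v} [Group K] [Finite K] [IsSimpleGroup K]

/-- the criterion for an element with a bound of the centralizer. -/
theorem pw_of_pe (hna : ¬ ∀ a b : K, a * b = b * a) {p m D k c N : ℕ} {y : K} (hy : PE p m y) (hD : MinDeg K D)
    (hc : Nat.card (centralizer ({y} : Set K)) ≤ c) (hk : 3 ≤ k) (hC : (c - 1) ^ k < D ^ (2 * k - 4))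
    (hN : m * k ≤ N) : PW p N K :=
  (PW.of_pe (perf_of_simple hna) hy hD hk
    (lt_of_le_of_lt (Nat.pow_le_pow_left (Nat.sub_le_sub_right hc 1) k) hC)).mono hN

omit [IsSimpleGroup K] in
theorem exists_order {l : ℕ} (hl : l.Prime) (hd : l ∣ Nat.card K) : ∃ y : K, orderOf y = l := by
  have := Fact.mk hl
  exact exists_prime_orderOf_dvd_card' l hd

/-- for the prime `l` itself. -/
theorem pw_of_order (hna : ¬ ∀ a b : K, a * b = b * a) {l D k c : ℕ} (hl : l.Prime) (hd : l ∣ Nat.card K)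
    (hD : MinDeg K D) (hc : ∀ y : K, orderOf y = l → Nat.card (centralizer ({y} : Set K)) ≤ c)
    (hk : 3 ≤ k) (hC : (c - 1) ^ k < D ^ (2 * k - 4)) (hN : k ≤ 70) : PW l 70 K := by
  obtain ⟨y, hy⟩ := exists_order hl hd
  exact pw_of_pe hna (IsPE.of_prime hy).pe hD (hc y hy) hk hC (by omega)

/-- for a prime `p` dividing `|N(⟨y⟩) : C(⟨y⟩)|`, `y` of prime order `l`. -/
theorem pw_of_norm (hna : ¬ ∀ a b : K, a * b = b * a) {p l D k c : ℕ} (hp : p.Prime) (hl : l.Prime) {y : K}
    (hy : orderOf y = l)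
    (hd : p ∣ (centralizer (zpowers y : Set K)).relIndex (normalizer (zpowers y : Set K)))
    (hD : MinDeg K D) (hc : Nat.card (centralizer ({y} : Set K)) ≤ c)
    (hk : 3 ≤ k) (hC : (c - 1) ^ k < D ^ (2 * k - 4)) (hN : 2 * k ≤ 70) : PW p 70 K :=
  pw_of_pe hna (pe_two_of_dvd hp (hy.symm ▸ hl) hd) hD hc hk hC hN

/-- the same from an explicit `p`-element normalizing `⟨y⟩`: `z y z⁻¹ = y ^ i`, `i ≢ 1` modulo the order of `y`. -/
theorem pw_of_conj (hna : ¬ ∀ a b : K, a * b = b * a) {p l D k c i : ℕ} (hl : l.Prime) {y z : K}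
    (hy : orderOf y = l) (hz : IsPE p z) (hzy : z * y * z⁻¹ = y ^ i) (hi : i % l ≠ 1)
    (hD : MinDeg K D) (hc : Nat.card (centralizer ({y} : Set K)) ≤ c)
    (hk : 3 ≤ k) (hC : (c - 1) ^ k < D ^ (2 * k - 4)) (hN : 2 * k ≤ 70) : PW p 70 K := by
  refine pw_of_pe hna (pe_two_of_normalizes hz (hy.symm ▸ hl) (hzy ▸ pow_mem (mem_zpowers y) i) ?_) hD hc hk hC hN
  intro h
  apply hi
  have h1 : y ^ i = y ^ 1 := by rw [← hzy, h, pow_one]; group
  have h2 := pow_inj_mod.1 h1
  rw [hy, Nat.mod_eq_of_lt hl.one_lt] at h2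
  exact h2

end Crit

end Cfsg.Agent.H773.Pw
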