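import Cfsg.Agent.H773.Pw.Spor
import Cfsg.Agent.H951.TCHeis

/-!
# Degrees from Heisenberg-like configurations (S2454, helper773)

* `minDeg_of_extra` : `z` of prime order `l`, conjugate to `z ^ j` for `j ∈ J`, and `m` pairs `(a i, b i)` of elements
  commuting with `z`, with `a i * b i = z * b i * a i`, different pairs commuting: every nontrivial irreducible representation
  has degree at least `|J| * l ^ m`.
* `minDeg_of_nonabelian` : a nonabelian subgroup of order `l ^ 3`: degree at least `|J| * l` (`J` = exponents of conjugate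
  powers of a generator of its centre).
-/

set_option autoImplicit false

namespace Cfsg.Agent.H773.Pw

open Cfsg Subgroup Cfsg.Agent.H514.DP Module

universe u v w

theorem sum_finrank_le {V : Type u} [AddCommGroup V] [Module ℂ V] [FiniteDimensional ℂ V] {ι : Type*} [Fintype ι]
    [DecidableEq ι] (p : ι → Submodule ℂ V) (h : iSupIndep p) : ∑ i, finrank ℂ (p i) ≤ finrank ℂ V := by
  have := LinearMap.finrank_le_finrank_of_injective h.dfinsupp_lsum_injective
  rwa [show finrank ℂ (Π₀ i, p i) = ∑ i, finrank ℂ (p i) from finrank_directSum ℂ fun i => p i] at this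

/-- distinct eigenvalues -/
theorem sum_eigen {V : Type u} [AddCommGroup V] [Module ℂ V] [FiniteDimensional ℂ V] {ι : Type*} [Fintype ι]
    (f : End ℂ V) (μ : ι → ℂ) (hμ : Function.Injective μ) {N : ℕ} (h : ∀ i, N ≤ finrank ℂ (f.eigenspace (μ i))) :
    Fintype.card ι * N ≤ finrank ℂ V := by
  classical
  have h1 : iSupIndep fun i => f.eigenspace (μ i) := (End.eigenspaces_iSupIndep f).comp hμ
  have h2 := sum_finrank_le _ h1
  refine le_trans ?_ h2
  calc Fintype.card ι * N = ∑ _i : ι, N := by rw [Finset.sum_const, Finset.card_univ, smul_eq_mul]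
    _ ≤ _ := Finset.sum_le_sum fun i _ => h i

theorem heis_dim {l : ℕ} {ζ : ℂ} (hζ : IsPrimitiveRoot ζ l) (m : ℕ) :
    ∀ (V : Type u) [AddCommGroup V] [Module ℂ V] [FiniteDimensional ℂ V] [Nontrivial V] (A B : Fin m → (V →ₗ[ℂ] V)),
      (∀ i, Function.Injective (A i)) → (∀ i, Function.Injective (B i)) →
      (∀ i v, A i (B i v) = ζ • B i (A i v)) → (∀ i j, i ≠ j → ∀ v, A i (B j v) = B j (A i v)) →
      (∀ i j, ∀ v, A i (A j v) = A j (A i v)) → (∀ i j, ∀ v, B i (B j v) = B j (B i v)) →
      l ^ m ≤ finrank ℂ V := by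
  induction m with
  | zero =>
    intro V _ _ _ _ A B _ _ _ _ _ _
    rw [pow_zero]
    exact finrank_pos
  | succ m ih =>
    intro V _ _ _ _ A B hA hB hAB hABij hAA hBB
    obtain ⟨α, hα⟩ := End.exists_eigenvalue (A (Fin.last m) : End ℂ V)
    have hα0 : α ≠ 0 := by
      rintro rfl
      obtain ⟨v, hv, hv0⟩ := hα.exists_hasEigenvector
      rw [End.mem_eigenspace_iff, zero_smul] at hv
      exact hv0 (hA _ (by rw [hv, map_zero]))
    have hl0 : l ≠ 0 ∨ l = 0 := by tauto
    set f : End ℂ V := A (Fin.last m) with hf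
    -- the eigenspaces
    have hdim : ∀ t : ℕ, l ^ m ≤ finrank ℂ (f.eigenspace (ζ ^ t * α)) := by
      intro t
      induction t with
      | zero =>
        rw [pow_zero, one_mul]
        set W := f.eigenspace α with hW
        have hWn : Nontrivial W := by
          rw [Submodule.nontrivial_iff_ne_bot]
          exact hα
        have key : ∀ g : V →ₗ[ℂ] V, (∀ v, f (g v) = g (f v)) → ∀ w ∈ W, g w ∈ W := by
          intro g hg w hw
          rw [hW, End.mem_eigenspace_iff] at hw ⊢
          rw [hg, hw, map_smul]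
        refine ih W (fun i => (A i.castSucc).restrict (key _ fun v => hAA _ _ v))
          (fun i => (B i.castSucc).restrict (key _ fun v => hABij _ _ (Fin.castSucc_lt_last i).ne' v)) ?_ ?_ ?_ ?_ ?_ ?_
        · intro i x y h
          exact Subtype.ext (hA _ (congrArg Subtype.val h))
        · intro i x y h
          exact Subtype.ext (hB _ (congrArg Subtype.val h))
        · intro i v
          exact Subtype.ext (hAB _ _)
        · intro i j hij v
          exact Subtype.ext (hABij _ _ (fun h => hij (Fin.castSucc_injective _ h)) _)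
        · intro i j v
          exact Subtype.ext (hAA _ _ _)
        · intro i j v
          exact Subtype.ext (hBB _ _ _)
      | succ t iht =>
        refine iht.trans ?_
        have key : ∀ w ∈ f.eigenspace (ζ ^ t * α), B (Fin.last m) w ∈ f.eigenspace (ζ ^ (t + 1) * α) := by
          intro w hw
          rw [End.mem_eigenspace_iff] at hw ⊢
          rw [hf, hAB, ← hf, hw, map_smul, smul_smul, pow_succ]
          congr 1
          ring
        refine LinearMap.finrank_le_finrank_of_injective (f := (B (Fin.last m)).restrict key) ?_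
        intro x y h
        exact Subtype.ext (hB _ (congrArg Subtype.val h))
    have h1 := sum_eigen (ι := Fin l) f (fun t => ζ ^ (t : ℕ) * α) (fun s t h => Fin.ext
      (hζ.pow_inj s.2 t.2 (mul_right_cancel₀ hα0 h))) (N := l ^ m) fun t => hdim t
    rw [Fintype.card_fin] at h1
    rw [pow_succ, mul_comm]
    exact h1

/-- **Degrees from an extraspecial configuration.** -/
theorem minDeg_of_extra {K : Type v} [Group K] [IsSimpleGroup K] [Finite K] {l m : ℕ} (hl : l.Prime) {z : K}
    (hz : orderOf z = l) (J : Finset ℕ) (hJ : ∀ j ∈ J, 0 < j ∧ j < l) (hconj : ∀ j ∈ J, IsConj z (z ^ j))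
    (a b : Fin m → K) (hab : ∀ i, a i * b i = z * (b i * a i)) (haz : ∀ i, Commute (a i) z) (hbz : ∀ i, Commute (b i) z)
    (habij : ∀ i j, i ≠ j → Commute (a i) (b j)) (haa : ∀ i j, Commute (a i) (a j)) (hbb : ∀ i j, Commute (b i) (b j)) :
    MinDeg K (J.card * l ^ m) := by
  classical
  intro k ρ hρ hk
  have hρ1 := Cfsg.Agent.H121.Chr.exists_ne_one ρ hρ hk
  -- faithful
  have hinj : ∀ g : K, ρ g = 1 → g = 1 := by
    have hN : (ρ : K →* _).ker.Normal := inferInstance
    rcases hN.eq_bot_or_eq_top with h | h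
    · intro g hg
      have : g ∈ (ρ : K →* _).ker := hg
      rwa [h, mem_bot] at this
    · exfalso
      obtain ⟨g, hg⟩ := hρ1
      apply hg
      have : g ∈ (ρ : K →* _).ker := by rw [h]; trivial
      exact this
  have hz1 : z ≠ 1 := by
    rintro rfl
    rw [orderOf_one] at hz
    exact hl.one_lt.ne hz
  set f : End ℂ (Fin k → ℂ) := ρ z with hf
  have hfl : f ^ l = 1 := by rw [hf, ← map_pow, ← hz, pow_orderOf_eq_one, map_one]
  have hmul : ∀ g h : K, ∀ v, ρ (g * h) v = ρ g (ρ h v) := fun g h v => by rw [map_mul]; rfl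
  have hgi : ∀ g : K, Function.Injective (ρ g) := by
    intro g x y h
    have h1 : ρ g⁻¹ (ρ g x) = ρ g⁻¹ (ρ g y) := by rw [h]
    rw [← hmul, ← hmul, inv_mul_cancel, map_one] at h1
    exact h1
  -- an eigenvalue different from one
  obtain ⟨ζ, w, hw0, hζw, hζ1⟩ : ∃ (ζ : ℂ) (w : Fin k → ℂ), w ≠ 0 ∧ f w = ζ • w ∧ ζ ≠ 1 := by
    let _ : CommGroup (zpowers z) :=
      { (inferInstance : Group (zpowers z)) with
        mul_comm := fun x y => by
          obtain ⟨i, hi⟩ := mem_zpowers_iff.1 x.2
          obtain ⟨j, hj⟩ := mem_zpowers_iff.1 y.2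
          apply Subtype.ext
          show (x : K) * y = y * x
          rw [← hi, ← hj, ← zpow_add, ← zpow_add, add_comm] }
    let σ : Multiplicative (Additive (zpowers z)) →* End ℂ (Fin k → ℂ) :=
      { toFun := fun x => ρ ((Additive.toMul (Multiplicative.toAdd x) : zpowers z) : K)
        map_one' := map_one ρ
        map_mul' := fun x y => map_mul ρ _ _ }
    obtain ⟨χ, v, hv0, hv, hχ⟩ := Cfsg.Agent.H951.TCHeis.exists_eig (A := Additive (zpowers z)) σ
      (Additive.ofMul ⟨z, mem_zpowers z⟩) (fun h => hz1 (hinj z h))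
    exact ⟨_, v, hv0, hv (Additive.ofMul ⟨z, mem_zpowers z⟩), hχ⟩
  have hζl : ζ ^ l = 1 := by
    have h1 : ∀ n : ℕ, (f ^ n) w = ζ ^ n • w := by
      intro n
      induction n with
      | zero => simp
      | succ n ih => rw [pow_succ', Module.End.mul_apply, ih, map_smul, hζw, smul_smul, pow_succ]
    have h2 := h1 l
    rw [hfl, Module.End.one_apply] at h2
    have h3 : (ζ ^ l - 1) • w = 0 := by rw [sub_smul, one_smul, ← h2, sub_self]
    exact sub_eq_zero.1 ((smul_eq_zero.1 h3).resolve_right hw0)
  have hprim : IsPrimitiveRoot ζ l := by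
    have : Fact l.Prime := ⟨hl⟩
    have h1 : orderOf ζ = l := orderOf_eq_prime hζl hζ1
    rw [← h1]
    exact IsPrimitiveRoot.orderOf ζ
  -- the eigenspace
  set W := f.eigenspace ζ with hW
  have hWn : Nontrivial W := by
    rw [Submodule.nontrivial_iff_ne_bot]
    intro h
    apply hw0
    have h1 : w ∈ W := by rw [hW, End.mem_eigenspace_iff, hζw]
    rw [h, Submodule.mem_bot] at h1
    exact h1
  have key : ∀ g : K, Commute g z → ∀ v ∈ W, ρ g v ∈ W := by
    intro g hg v hv
    rw [hW, End.mem_eigenspace_iff] at hv ⊢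
    rw [hf, ← hmul, ← hg.eq, hmul, ← hf, hv, map_smul]
  have hWdim : l ^ m ≤ finrank ℂ W := by
    refine heis_dim hprim m W (fun i => (ρ (a i)).restrict (key _ (haz i))) (fun i => (ρ (b i)).restrict (key _ (hbz i)))
      ?_ ?_ ?_ ?_ ?_ ?_
    · intro i x y h
      exact Subtype.ext (hgi _ (congrArg Subtype.val h))
    · intro i x y h
      exact Subtype.ext (hgi _ (congrArg Subtype.val h))
    · intro i v
      apply Subtype.ext
      show ρ (a i) (ρ (b i) v) = ζ • ρ (b i) (ρ (a i) v)
      rw [← hmul, hab, hmul, ← hf, hmul]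
      exact End.mem_eigenspace_iff.1 (key _ (hbz i) _ (key _ (haz i) _ v.2))
    · intro i j hij v
      apply Subtype.ext
      show ρ (a i) (ρ (b j) v) = ρ (b j) (ρ (a i) v)
      rw [← hmul, (habij i j hij).eq, hmul]
    · intro i j v
      apply Subtype.ext
      show ρ (a i) (ρ (a j) v) = ρ (a j) (ρ (a i) v)
      rw [← hmul, (haa i j).eq, hmul]
    · intro i j v
      apply Subtype.ext
      show ρ (b i) (ρ (b j) v) = ρ (b j) (ρ (b i) v)
      rw [← hmul, (hbb i j).eq, hmul]
  have h1 := sum_eigen (ι := J) f (fun j => ζ ^ (j : ℕ)) (fun i j h => Subtype.ext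
    (hprim.pow_inj (hJ i i.2).2 (hJ j j.2).2 h)) (N := l ^ m) fun j => by
      refine hWdim.trans ?_
      obtain ⟨h, hh⟩ := isConj_iff.1 (hconj j j.2)
      have key2 : ∀ v ∈ W, ρ h⁻¹ v ∈ f.eigenspace (ζ ^ (j : ℕ)) := by
        intro v hv
        rw [hW, End.mem_eigenspace_iff] at hv
        rw [End.mem_eigenspace_iff, hf, ← hmul, show z * h⁻¹ = h⁻¹ * z ^ (j : ℕ) by rw [← hh]; group, hmul, map_pow,
          ← hf]
        have h2 : ∀ n : ℕ, (f ^ n) v = ζ ^ n • v := by
          intro n
          induction n with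
          | zero => simp
          | succ n ih => rw [pow_succ', Module.End.mul_apply, ih, map_smul, hv, smul_smul, pow_succ]
        rw [h2, map_smul]
      refine LinearMap.finrank_le_finrank_of_injective (f := (ρ h⁻¹).restrict key2) ?_
      intro x y hxy
      exact Subtype.ext (hgi _ (congrArg Subtype.val hxy))
  rwa [Fintype.card_coe, finrank_fin_fun] at h1

/-- a nonabelian pair: `a * b = z * (b * a)` with `z` central in `⟨a, b⟩`: degree at least `|J| * l`. -/
theorem minDeg_of_pair {K : Type v} [Group K] [IsSimpleGroup K] [Finite K] {l : ℕ} (hl : l.Prime) {z : K}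
    (hz : orderOf z = l) (J : Finset ℕ) (hJ : ∀ j ∈ J, 0 < j ∧ j < l) (hconj : ∀ j ∈ J, IsConj z (z ^ j))
    {a b : K} (hab : a * b = z * (b * a)) (haz : Commute a z) (hbz : Commute b z) : MinDeg K (J.card * l) := by
  have := minDeg_of_extra (m := 1) hl hz J hJ hconj (fun _ => a) (fun _ => b) (fun _ => hab) (fun _ => haz)
    (fun _ => hbz) (fun i j h => absurd (Subsingleton.elim i j) h) (fun _ _ => Commute.refl _) (fun _ _ => Commute.refl _)
  rwa [pow_one] at this

/-- the same with the index of the centralizer in the normalizer of `⟨z⟩`. -/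
theorem minDeg_of_extra_norm {K : Type v} [Group K] [IsSimpleGroup K] [Finite K] {l m : ℕ} (hl : l.Prime) {z : K}
    (hz : orderOf z = l) {e : ℕ}
    (he : e * Nat.card (centralizer (zpowers z : Set K)) ≤ Nat.card (normalizer (zpowers z : Set K)))
    (a b : Fin m → K) (hab : ∀ i, a i * b i = z * (b i * a i)) (haz : ∀ i, Commute (a i) z) (hbz : ∀ i, Commute (b i) z)
    (habij : ∀ i j, i ≠ j → Commute (a i) (b j)) (haa : ∀ i j, Commute (a i) (a j)) (hbb : ∀ i j, Commute (b i) (b j)) :
    MinDeg K (e * l ^ m) := by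
  obtain ⟨J, h1, h2, h3⟩ := H253.TC.exists_conj_powers hl hz he
  intro k ρ hρ hk
  exact (Nat.mul_le_mul_right _ h3).trans (minDeg_of_extra hl hz J h1 h2 a b hab haz hbz habij haa hbb k ρ hρ hk)

end Cfsg.Agent.H773.Pw
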