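import Cfsg.Agent.H612.Ore.SpCover

/-!
# S2465, PrF(Sp₆(2); 6, 8): products of elements of orders 5 and 7 (helper773)

* `prF_sp` : every element of `Sp₆(2)`, not `1` and not a transvection, is `a * b` with `a` of order 5, `b` of order 7
  (an element of order 7 has no fixed vector on the natural module, an element of order 5 none on the spin module);
* `pr_tr` : a transvection is a product of two elements of order 7;
* `prF_fix` : the form with common fixed vectors on the natural module.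
-/

set_option autoImplicit false
set_option maxRecDepth 100000

namespace Cfsg.Agent.H773.SpSix

open Cfsg Cfsg.Agent.H612.Ore
open Cfsg.Agent.SporRec.TwoSp6.Sp (V S om tr act act_one act_mul act_ext act_add act_om act_tr enc enc_xor om_enc
  fN exists_enc)

/-- words of the elements of order five -/
def aw5 : List (List ℕ) := [[], [], [5, 4, 3, 2], [5, 4, 2, 3, 2, 1], [6, 5, 4, 2, 3, 2],
  [3, 2, 6, 5, 4, 2, 3, 1, 2, 1], [4, 3, 2, 6, 4, 5, 2, 1], [4, 3, 2, 6, 4, 1, 2, 0], [5, 2, 3, 4],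
  [4, 5, 4, 1, 2, 3], [3, 4, 5, 2], [3, 4, 3, 0, 1, 2], [6, 5, 0, 1, 2, 3, 4, 2, 1, 0], [2, 3, 4, 2, 1, 0],
  [3, 2, 6, 4, 5, 2], [6, 4, 2, 3], [5, 4, 2, 3], [6, 4, 5, 2, 3, 2], [2, 3, 4, 5, 3, 1, 2, 1], [2, 3, 1, 0],
  [4, 5, 2, 3], [6, 2, 3, 4, 5, 3], [4, 5, 2, 3], [6, 0, 1, 2], [6, 5, 0, 1, 2, 3, 4, 2, 1, 0], [4, 5, 2, 3],
  [3, 4, 2, 0, 1, 0], [6, 2, 1, 0], [2, 6, 3, 4, 5, 3], [6, 2, 3, 4, 1, 2]]

/-- words of the elements of order seven -/
def bw7 : List (List ℕ) := [[], [], [2, 3, 4, 5, 1, 0], [1, 2, 3, 4, 5, 0], [3, 2, 6, 3, 4, 5, 2, 1, 0],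
  [2, 3, 1, 2, 6, 3, 4, 5, 2, 1, 0], [1, 2, 6, 5, 4, 2, 3, 2, 0], [0, 1, 2, 6, 1, 2, 3, 4, 5],
  [4, 5, 2, 3, 1, 0], [3, 4, 5, 1, 2, 0], [5, 2, 3, 4, 1, 0], [2, 3, 4, 5, 0, 1], [4, 5, 3, 2, 1, 0],
  [4, 3, 0, 1, 2, 6, 5, 2], [2, 6, 5, 2, 3, 4, 2, 1, 0], [3, 2, 6, 4, 5, 3, 2, 1, 0],
  [3, 2, 6, 4, 5, 3, 2, 1, 0], [3, 2, 6, 3, 4, 5, 2, 1, 0], [5, 4, 2, 3, 1, 2, 6, 1, 0],
  [3, 0, 1, 2, 6, 5, 4, 3, 2], [3, 4, 5, 2, 3, 2, 1, 0], [5, 4, 2, 3, 1, 0], [3, 2, 6, 4, 5, 2, 1, 0],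
  [5, 4, 2, 3, 0, 1], [4, 5, 2, 3, 1, 2, 1, 0], [3, 2, 6, 4, 5, 3, 2, 1, 0],
  [0, 1, 2, 6, 4, 5, 2, 3, 0, 1, 2], [5, 4, 3, 2, 0, 1], [2, 6, 5, 4, 1, 2, 3, 2, 0, 1],
  [3, 2, 6, 5, 4, 0, 1, 2, 3, 0, 1, 2, 0, 1, 0]]

/-- codes of the elements of order five -/
def ac5 : List ℕ := [34630287489, 34630287489, 22077639809, 25298865274, 8383237185, 21136100541, 39589971054,
  21621310590, 55082710337, 68099640905, 4420732289, 22261206408, 45602760463, 59173713246, 4684973121,
  7573753153, 25017846849, 38516182337, 39406747006, 59374847306, 55082634561, 38712261953, 55082634561,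
  34532508808, 45602760463, 55082634561, 55952475551, 34410349722, 38976567681, 42082645338]

/-- codes of the elements of order seven -/
def bc7 : List ℕ := [34630287489, 34630287489, 4614206794, 4750817097, 4630983821, 4683707461, 16920218761,
  4450325835, 55080013130, 4554687881, 55080088906, 4616566091, 52194332094, 52590167560, 37916931469,
  55298165177, 55298165177, 4630983821, 25369904762, 11357603976, 55415605374, 25015225418, 4681303118,
  25017584715, 55501802878, 55298165177, 45902089619, 22077377723, 13885640291, 14852246323]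

theorem codes57 : ((List.range 30).all fun i => isCode (aw5.getD i []) (ac5.getD i 0) &&
    isCode (bw7.getD i []) (bc7.getD i 0)) = true := by decide +kernel

theorem rep_a5 {i : ℕ} (hi : i < 30) : spAct.Rep (wd tv (aw5.getD i [])) (ac5.getD i 0) := by
  have h := List.all_eq_true.1 codes57 i (List.mem_range.2 hi)
  rw [Bool.and_eq_true] at h
  exact rep_wd h.1

theorem rep_b7 {i : ℕ} (hi : i < 30) : spAct.Rep (wd tv (bw7.getD i [])) (bc7.getD i 0) := by
  have h := List.all_eq_true.1 codes57 i (List.mem_range.2 hi)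
  rw [Bool.and_eq_true] at h
  exact rep_wd h.2

theorem prod_chk : ((List.range 30).all fun i => (i == 1) || (List.range 6).all fun k =>
    apc 6 (ac5.getD i 0) (apc 6 (bc7.getD i 0) (2 ^ k)) == apc 6 (reps.getD i 0) (2 ^ k)) = true := by decide +kernel

/-- the representatives are products of explicit words -/
theorem prod57 {i : ℕ} (hi : i < 30) (h1 : i ≠ 1) : wd tv (rws.getD i []) =
    wd tv (aw5.getD i []) * wd tv (bw7.getD i []) := by
  apply spAct.ext
  intro k hk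
  have h := List.all_eq_true.1 prod_chk i (List.mem_range.2 hi)
  rw [Bool.or_eq_true, beq_iff_eq] at h
  have h2 := eq_of_beq (List.all_eq_true.1 (h.resolve_left h1) k (List.mem_range.2 hk))
  have hk2 := two_pow_lt (n := 6) hk
  rw [spAct.mul _ _ _ hk2, spAct.ap_eq (rep_b7 hi) hk2, spAct.ap_eq (rep_a5 hi) (apc_lt _ hk2 (rep_b7 hi)),
    spAct.ap_eq (rep_r hi) hk2]
  exact h2.symm

theorem ord_chk : ((List.range 30).all fun i => (i == 0) || (i == 1) ||
    (((List.range 6).all fun k => itc (ac5.getD i 0) 5 (2 ^ k) == 2 ^ k) &&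
    ((List.range 6).any fun k => !(itc (ac5.getD i 0) 1 (2 ^ k) == 2 ^ k)) &&
    ((List.range 6).all fun k => itc (bc7.getD i 0) 7 (2 ^ k) == 2 ^ k) &&
    ((List.range 6).any fun k => !(itc (bc7.getD i 0) 1 (2 ^ k) == 2 ^ k)))) = true := by decide +kernel

/-- the order of an element from its code -/
theorem order_of_code {g : S} {c p : ℕ} (hp : p.Prime) (h : spAct.Rep g c)
    (h1 : ((List.range 6).all fun k => itc c p (2 ^ k) == 2 ^ k) = true)
    (h2 : ((List.range 6).any fun k => !(itc c 1 (2 ^ k) == 2 ^ k)) = true) : orderOf g = p := by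
  have : Fact p.Prime := ⟨hp⟩
  apply orderOf_eq_prime
  · apply spAct.ext
    intro k hk
    have hk2 := two_pow_lt (n := 6) hk
    rw [(ap_pow h p hk2).1, spAct.one _ hk2]
    exact eq_of_beq (List.all_eq_true.1 h1 k (List.mem_range.2 hk))
  · intro he
    obtain ⟨k, hk, h3⟩ := List.any_eq_true.1 h2
    have hk2 := two_pow_lt (n := 6) (List.mem_range.1 hk)
    have h4 := (ap_pow h 1 hk2).1
    rw [pow_one, he, spAct.one _ hk2] at h4
    rw [← h4, beq_self_eq_true, Bool.not_true] at h3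
    exact Bool.noConfusion h3

theorem orders {i : ℕ} (hi : i < 30) (h0 : i ≠ 0) (h1 : i ≠ 1) :
    orderOf (wd tv (aw5.getD i [])) = 5 ∧ orderOf (wd tv (bw7.getD i [])) = 7 := by
  have h := List.all_eq_true.1 ord_chk i (List.mem_range.2 hi)
  rw [Bool.or_eq_true, Bool.or_eq_true, beq_iff_eq, beq_iff_eq] at h
  have h2 := h.resolve_left (by tauto)
  rw [Bool.and_eq_true, Bool.and_eq_true, Bool.and_eq_true] at h2
  obtain ⟨⟨⟨ha, hb⟩, hc⟩, hd⟩ := h2
  exact ⟨order_of_code Nat.prime_five (rep_a5 hi) ha hb, order_of_code (by norm_num) (rep_b7 hi) hc hd⟩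

theorem conj_order (h x : S) : orderOf (h⁻¹ * x * h) = orderOf x := by
  have h3 : h⁻¹ * x * h = (MulAut.conj h⁻¹) x := by
    rw [MulAut.conj_apply, inv_inv]
  rw [h3, MulEquiv.orderOf_eq]

/-- **Every element of `Sp₆(2)`, not `1` and not a transvection, is a product of an element of order 5 and an element
of order 7.** -/
theorem prF_sp (g : S) (h1 : g ≠ 1) (ht : ∀ u : V, g ≠ tr u) :
    ∃ a b : S, g = a * b ∧ orderOf a = 5 ∧ orderOf b = 7 := by
  obtain ⟨i, hi, h, e⟩ := exists_rep30 g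
  have hi0 : i ≠ 0 := by
    rintro rfl
    apply h1
    have e' : h * g * h⁻¹ = 1 := e
    rw [mul_inv_eq_one, mul_eq_left] at e'
    exact e'
  have hi1 : i ≠ 1 := by
    rintro rfl
    rw [rws_one] at e
    apply ht (act h⁻¹ (enc 1))
    rw [← Cfsg.Agent.SporRec.TwoSp6.Sp.conj_tr, ← e]
    group
  obtain ⟨ha, hb⟩ := orders hi hi0 hi1
  refine ⟨h⁻¹ * wd tv (aw5.getD i []) * h, h⁻¹ * wd tv (bw7.getD i []) * h, ?_, ?_, ?_⟩
  · have e2 : g = h⁻¹ * (h * g * h⁻¹) * h := by group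
    rw [e2, e, prod57 hi hi1]
    group
  · rw [conj_order, ha]
  · rw [conj_order, hb]

/-- the two elements over a transvection -/
def ta : List ℕ := [6, 5, 4, 1, 2, 3, 1, 2, 0, 1]
def tb : List ℕ := [1, 2, 3, 0, 1, 2, 6, 4, 5, 1, 0]

theorem tr_chk : (((List.range 6).all fun k => apc 6 16788360816 (apc 6 4379883031 (2 ^ k)) == apc 6 (reps.getD 1 0) (2 ^ k)) &&
    (((List.range 6).all fun k => itc 16788360816 7 (2 ^ k) == 2 ^ k) &&
    ((List.range 6).any fun k => !(itc 16788360816 1 (2 ^ k) == 2 ^ k)) &&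
    ((List.range 6).all fun k => itc 4379883031 7 (2 ^ k) == 2 ^ k) &&
    ((List.range 6).any fun k => !(itc 4379883031 1 (2 ^ k) == 2 ^ k)))) = true := by decide +kernel

theorem code_ta : isCode ta 16788360816 = true := by decide +kernel
theorem code_tb : isCode tb 4379883031 = true := by decide +kernel

theorem tr_one : tr (enc 1) = wd tv ta * wd tv tb ∧ orderOf (wd tv ta) = 7 ∧ orderOf (wd tv tb) = 7 := by
  have h := tr_chk
  rw [Bool.and_eq_true, Bool.and_eq_true, Bool.and_eq_true, Bool.and_eq_true] at h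
  obtain ⟨h0, ⟨⟨ha, hb⟩, hc⟩, hd⟩ := h
  refine ⟨?_, order_of_code (by norm_num) (rep_wd code_ta) ha hb, order_of_code (by norm_num) (rep_wd code_tb) hc hd⟩
  rw [← rws_one]
  apply spAct.ext
  intro k hk
  have hk2 := two_pow_lt (n := 6) hk
  have h2 := eq_of_beq (List.all_eq_true.1 h0 k (List.mem_range.2 hk))
  rw [spAct.mul _ _ _ hk2, spAct.ap_eq (rep_wd code_tb) hk2,
    spAct.ap_eq (rep_wd code_ta) (apc_lt _ hk2 (rep_wd code_tb)), spAct.ap_eq (rep_r (by norm_num)) hk2]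
  exact h2.symm

/-- **Every element of `Sp₆(2)` is a product of two elements of order prime to 6.** -/
theorem pr_sp (g : S) : ∃ a b : S, g = a * b ∧ (orderOf a).Coprime 6 ∧ (orderOf b).Coprime 6 := by
  obtain ⟨i, hi, h, e⟩ := exists_rep30 g
  have key : ∀ a b : S, wd tv (rws.getD i []) = a * b → (orderOf a).Coprime 6 → (orderOf b).Coprime 6 →
      ∃ a b : S, g = a * b ∧ (orderOf a).Coprime 6 ∧ (orderOf b).Coprime 6 := by
    intro a b hab ha hb
    refine ⟨h⁻¹ * a * h, h⁻¹ * b * h, ?_, by rwa [conj_order], by rwa [conj_order]⟩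
    have e2 : g = h⁻¹ * (h * g * h⁻¹) * h := by group
    rw [e2, e, hab]
    group
  by_cases hi0 : i = 0
  · subst hi0
    exact key 1 1 (by rw [one_mul]; rfl) (by rw [orderOf_one]; norm_num) (by rw [orderOf_one]; norm_num)
  by_cases hi1 : i = 1
  · subst hi1
    obtain ⟨h1, h2, h3⟩ := tr_one
    exact key _ _ (rws_one.trans h1) (by rw [h2]; norm_num) (by rw [h3]; norm_num)
  · obtain ⟨ha, hb⟩ := orders hi hi0 hi1
    exact key _ _ (prod57 hi hi1) (by rw [ha]; norm_num) (by rw [hb]; norm_num)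

end Cfsg.Agent.H773.SpSix
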